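import Cfsg.Agent.H40.Tall.OfBase
import Cfsg.Agent.OddHalf.D6.QThree.G23Facts
import Cfsg.Agent.KFacts.PSpFourThree.Main

/-!
# S2927, SM3: `Both K` for `G₂(3)` and `PSp₄(3)` (helper40)
-/

set_option autoImplicit false

namespace Cfsg.Agent.H40.Tall

open Cfsg Cfsg.Lie
open Cfsg.Agent.H226.Tall

/-- **`G₂(3)`** -/
theorem both_g23 {K : Type*} [Group K] [Finite K] (F : Type) [Field F] [Fintype F] (hF : Fintype.card F = 3)
    (e : K ≃* ↥(chevG2.group F)) : Both K := by
  obtain ⟨z, R, h⟩ := OddHalf.D6.QThree.G23Facts.facts F hF e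
  exact both_of_base h.toBase

/-- **`PSp₄(3)`** -/
theorem both_psp43 {K : Type*} [Group K] [Finite K] {F : Type*} [Field F] [Fintype F] (hF : Fintype.card F = 3)
    (e : K ≃* PSp 2 F) : Both K := by
  obtain ⟨z, R, h⟩ := KFacts.PSpFourThree.exists_three hF ⟨e⟩
  exact both_of_base h.toBase

end Cfsg.Agent.H40.Tall
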